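import Cfsg.Agent.H968.Rat.RowMathieu
import Cfsg.Agent.J4Type.Aut22

/-!
# S4829, `M22`, `p = 3` : a witness of degree 55, invariant under automorphisms (helper483)

* `inv_of_sum` : constituents of different degrees of `1 + χ₁ + χ₂`;
* `exists_m22` : the witness.
-/

set_option autoImplicit false
set_option maxRecDepth 100000

namespace Cfsg.Agent.H483.CY

open Cfsg Subgroup MulAction
open Cfsg.Agent.Characters.Core
open scoped Pointwise

universe u

/-- **Invariance.** `1 + χ₁ + χ₂` invariant under `α`, different degrees: `χ₁` and `χ₂` are invariant. -/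
theorem inv_of_sum {G : Type u} [Group G] [Finite G] {χ₁ χ₂ : IrrCharacter G}
    (hd : charDegree (χ₁ : G → ℂ) ≠ charDegree (χ₂ : G → ℂ)) (α : MulAut G)
    (h : ∀ g, (χ₁ : G → ℂ) (α g) + (χ₂ : G → ℂ) (α g) = (χ₁ : G → ℂ) g + (χ₂ : G → ℂ) g) (g : G) :
    (χ₁ : G → ℂ) (α g) = (χ₁ : G → ℂ) g := by
  classical
  have := Fintype.ofFinite G
  set ψ₁ : IrrCharacter G := ⟨(χ₁ : G → ℂ) ∘ α.toMonoidHom, isIrr_comp α.toMonoidHom α.surjective χ₁.2⟩ with h1
  set ψ₂ : IrrCharacter G := ⟨(χ₂ : G → ℂ) ∘ α.toMonoidHom, isIrr_comp α.toMonoidHom α.surjective χ₂.2⟩ with h2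
  have hsum : (ψ₁ : G → ℂ) + (ψ₂ : G → ℂ) = (χ₁ : G → ℂ) + (χ₂ : G → ℂ) := funext h
  have hne : (χ₁ : G → ℂ) ≠ (χ₂ : G → ℂ) := fun e => hd (by rw [e])
  have hdeg : charDegree (ψ₂ : G → ℂ) = charDegree (χ₂ : G → ℂ) := by
    unfold charDegree
    show ⌊((χ₂ : G → ℂ) (α 1)).re⌋₊ = _
    rw [map_one]
  have h3 : classInner (ψ₁ : G → ℂ) (χ₁ : G → ℂ) + classInner (ψ₂ : G → ℂ) (χ₁ : G → ℂ) = 1 := by
    rw [← classInner_add_left, hsum, classInner_add_left, classInner_irr_self χ₁.2,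
      classInner_irr_ne χ₂.2 χ₁.2 (Ne.symm hne), add_zero]
  by_cases h4 : (ψ₁ : G → ℂ) = (χ₁ : G → ℂ)
  · exact congrFun h4 g
  · rw [classInner_irr_ne ψ₁.2 χ₁.2 h4, zero_add] at h3
    have h5 : (ψ₂ : G → ℂ) = (χ₁ : G → ℂ) := by
      by_contra h6
      rw [classInner_irr_ne ψ₂.2 χ₁.2 h6] at h3
      exact zero_ne_one h3
    rw [h5] at hdeg
    exact absurd hdeg hd

/-- a witness of odd degree, integer valued, invariant under automorphisms -/
def WitO (p : ℕ) (S : Type u) [Group S] : Prop := ∀ M : Ideal AlgInt, IsPModular p M → ∃ θ : IrrCharacter S,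
  θ ∈ principalBlock M S ∧ (θ : S → ℂ) ≠ (fun _ => 1) ∧ ¬ p ∣ charDegree (θ : S → ℂ) ∧ Odd (charDegree (θ : S → ℂ)) ∧
  (∀ g, ∃ k : ℤ, (θ : S → ℂ) g = k) ∧ ∀ a : MulAut S, ∀ x, (θ : S → ℂ) (a x) = (θ : S → ℂ) x

open Cfsg.Agent.H968.Rat Cfsg.Agent.H701.PBMathieu Cfsg.Agent.H852.IMMathieu Cfsg.Agent.H690.Spor.RankThree Cfsg.Agent.J4Type.Aut22

theorem smul_XH {g : Equiv.Perm GolayPt} (hg : g ∈ D22) {o : Finset GolayPt} (ho : o ∈ XH) : g • o ∈ XH := by
  rw [mem_D22_iff] at hg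
  refine ⟨smul_oct hg.1 ho.1, ?_, ?_⟩
  · rcases hg.2 with ⟨h1, h2⟩ | ⟨h1, h2⟩
    · exact (mem_smul_fix h1 o).2 ho.2.1
    · have h3 : (none : GolayPt) = g • (some 0 : GolayPt) := h2.symm
      rw [h3]
      exact (Finset.smul_mem_smul_finset_iff g).2 ho.2.2
  · rcases hg.2 with ⟨h1, h2⟩ | ⟨h1, h2⟩
    · exact (mem_smul_fix h2 o).2 ho.2.2
    · have h3 : (some 0 : GolayPt) = g • (none : GolayPt) := h1.symm
      rw [h3]
      exact (Finset.smul_mem_smul_finset_iff g).2 ho.2.1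

/-- the permutation character of degree 77 is invariant -/
theorem fix_inv (α : MulAut Spor.M22) (m : Spor.M22) : letI := actSub XH hXH
    Nat.card (fixedBy XH (α m)) = Nat.card (fixedBy XH m) := by
  let _ := actSub XH hXH
  obtain ⟨g, hg, hgm⟩ := exists_conj α
  have hgi : g⁻¹ ∈ D22 := D22.inv_mem hg
  refine (Nat.card_congr ?_).symm
  refine
    { toFun := fun o => ⟨⟨g • (o.1 : Finset GolayPt), smul_XH hg o.1.2⟩, ?_⟩
      invFun := fun o => ⟨⟨g⁻¹ • (o.1 : Finset GolayPt), smul_XH hgi o.1.2⟩, ?_⟩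
      left_inv := fun o => Subtype.ext (Subtype.ext (inv_smul_smul g _))
      right_inv := fun o => Subtype.ext (Subtype.ext (smul_inv_smul g _)) }
  · rw [mem_fixedBy]
    apply Subtype.ext
    show ((α m : Spor.M22) : Equiv.Perm GolayPt) • (g • (o.1 : Finset GolayPt)) = g • (o.1 : Finset GolayPt)
    have h1 : (m : Equiv.Perm GolayPt) • (o.1 : Finset GolayPt) = o.1 := congrArg Subtype.val ((mem_fixedBy).1 o.2)
    rw [hgm, smul_smul, inv_mul_cancel_right, mul_smul, h1]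
  · rw [mem_fixedBy]
    apply Subtype.ext
    show (m : Equiv.Perm GolayPt) • (g⁻¹ • (o.1 : Finset GolayPt)) = g⁻¹ • (o.1 : Finset GolayPt)
    have h1 : ((α m : Spor.M22) : Equiv.Perm GolayPt) • (o.1 : Finset GolayPt) = o.1 :=
      congrArg Subtype.val ((mem_fixedBy).1 o.2)
    rw [hgm, mul_smul, mul_smul] at h1
    rw [eq_inv_smul_iff]
    exact h1

/-- **`M22`, `p = 3`** : degree 55 -/
theorem witO_m22 : WitO 3 Spor.M22 := by
  have h3 : Fact (Nat.Prime 3) := ⟨Nat.prime_three⟩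
  have hc22 : Nat.card Spor.M22 = 443520 := Cfsg.Agent.NotCT.Orders.m22 ⟨MulEquiv.refl _⟩
  have : Finite Spor.M22 := Nat.finite_of_card_ne_zero (by rw [hc22]; norm_num)
  have hi := fix_inv
  let _ := actSub XH hXH
  obtain ⟨P⟩ : Nonempty (Sylow 3 Spor.M22) := inferInstance
  obtain ⟨χ₁, χ₂, h1, h2, hs, h4⟩ := H968.Imc.exists_pair r3_hexads
    (fun a b => (decide (a = 55) && decide (b = 21)) || (decide (a = 21) && decide (b = 55))) (by decide +kernel)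
  rw [Bool.or_eq_true, Bool.and_eq_true, Bool.and_eq_true, decide_eq_true_eq, decide_eq_true_eq, decide_eq_true_eq,
    decide_eq_true_eq] at h4
  have hsum : ∀ (α : MulAut Spor.M22) (g : Spor.M22), (χ₁ : Spor.M22 → ℂ) (α g) + (χ₂ : Spor.M22 → ℂ) (α g) =
      (χ₁ : Spor.M22 → ℂ) g + (χ₂ : Spor.M22 → ℂ) g := by
    intro α g
    have h5 := hs (α g)
    have h6 := hs g
    rw [hi α g] at h5
    linear_combination h6 - h5
  intro M hM
  rcases h4 with ⟨h5, h6⟩ | ⟨h5, h6⟩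
  · refine ⟨χ₁, H684.Principal.mem_of_not_dvd hM P.2 (cent_m22 P) χ₁ (by rw [h5]; norm_num),
      H968.Rat.ne_one_of_deg (by rw [h5]; norm_num), by rw [h5]; norm_num, by rw [h5]; exact ⟨27, rfl⟩, h1, fun a x => ?_⟩
    exact inv_of_sum (by rw [h5, h6]; norm_num) a (hsum a) x
  · refine ⟨χ₂, H684.Principal.mem_of_not_dvd hM P.2 (cent_m22 P) χ₂ (by rw [h6]; norm_num),
      H968.Rat.ne_one_of_deg (by rw [h6]; norm_num), by rw [h6]; norm_num, by rw [h6]; exact ⟨27, rfl⟩, h2, fun a x => ?_⟩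
    exact inv_of_sum (by rw [h5, h6]; norm_num) a (fun g => by rw [add_comm, hsum a g, add_comm]) x

end Cfsg.Agent.H483.CY
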