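import Cfsg.Agent.H483.CY.MTwentyTwo
import Cfsg.Agent.H629.CY.Defs

/-!
# S4829: the witness of `M22`, `p = 3`, in the interface of helper629 (helper483)
-/

set_option autoImplicit false

namespace Cfsg.Agent.H483.CY

open Cfsg Cfsg.Agent.Characters.Core Cfsg.Agent.H493.RatB

universe u v

theorem witOR_congr {p : ℕ} {S : Type u} [Group S] [Finite S] {T : Type v} [Group T]
    (e : S ≃* T) (h : H629.CY.WitOR p T) : H629.CY.WitOR p S := by
  intro M hM
  obtain ⟨θ, h1, h2, h3, h4, h5⟩ := h M hM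
  have hd : charDegree (fun x : S => (θ : T → ℂ) (e x)) = charDegree (θ : T → ℂ) := by
    rw [Blocks.Basic.charDegree_def, Blocks.Basic.charDegree_def, map_one]
  refine ⟨⟨_, isIrr_comp (e : S →* T) e.surjective θ.2⟩, mem_principalBlock_comp e h1, fun h5 => h2 (by
    funext y
    obtain ⟨x, rfl⟩ := e.surjective y
    exact congrFun h5 x), ?_, ?_, fun g => h5 (e g)⟩
  · show ¬ p ∣ charDegree (fun x : S => (θ : T → ℂ) (e x))
    rwa [hd]
  · show Odd (charDegree (fun x : S => (θ : T → ℂ) (e x)))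
    rwa [hd]

/-- **`M22`, `p = 3`** : degree 55 -/
theorem witOR_m22_three {S : Type u} [Group S] (h : Spor.IsoM22 S) : H629.CY.WitOR 3 S := by
  obtain ⟨e⟩ := h
  have hc22 : Nat.card Spor.M22 = 443520 := Cfsg.Agent.NotCT.Orders.m22 ⟨MulEquiv.refl _⟩
  have : Finite Spor.M22 := Nat.finite_of_card_ne_zero (by rw [hc22]; norm_num)
  have : Finite S := Finite.of_equiv _ e.symm.toEquiv
  refine witOR_congr e ?_
  intro M hM
  obtain ⟨θ, h1, h2, h3, h4, h5, -⟩ := witO_m22 M hM
  exact ⟨θ, h1, h2, h3, h4, RatV.of_int h5⟩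

end Cfsg.Agent.H483.CY
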